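import Groth.Agent.SmTorLib.Alg
import Groth.Agent.RelFlatLib.TorDim
import Groth.Agent.WEtNormalLib.Main
import Mathlib.AlgebraicGeometry.Morphisms.Smooth

set_option autoImplicit false
set_option linter.style.haveILetI false
set_option backward.isDefEq.respectTransparency false
set_option backward.isDefEq.respectTransparency.types false
universe u

open CategoryTheory CategoryTheory.Limits AlgebraicGeometry HomologicalComplex

attribute [local instance] HasDerivedCategory.standard

namespace Groth.Agent.SmTorLib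

theorem td_of_amplitude {A : Type u} [CommRing A] (M : Type u) [AddCommGroup M] [Module A M] {a b : ℤ}
    (h : DRing.HasTorAmplitudeIn A a b (Dual.inD A M)) : TD A (-a).toNat M := by
  let P := projectiveResolution (ModuleCat.of A M)
  have hA := DRingLib.amp_of_hasTorAmplitudeIn h (DRingLib.isKFlat_projectiveResolution P)
    (DRingLib.qResolutionIso P)
  refine (td_iff_hasTorDimLE _ _).2 fun N _ _ p hp => ?_
  obtain ⟨q, rfl⟩ : ∃ q, p = q + 1 := ⟨p - 1, by omega⟩
  exact (DRingLib.subsingleton_tor_iff (ModuleCat.of A M) (ModuleCat.of A N) P q).mpr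
    (hA (ModuleCat.of A N) _ (Or.inl (by omega)))

variable {X B : Scheme.{u}}

/-- The complex of stalks of a module in degree `0`, in the derived category. -/
noncomputable def stalkSingleIso (φ : X ⟶ B) (F : X.Modules) (x : X) :
    DRing.toD ((DerSch.stalkCxOver φ x).obj
        ((HomologicalComplex.single X.Modules (ComplexShape.up ℤ) 0).obj F)) ≅
      Dual.inD (B.presheaf.stalk (φ.base x)) ((DerSch.stalkOver φ x).obj F) :=
  DerivedCategory.Q.mapIso
      ((singleMapHomologicalComplex (DerSch.stalkOver φ x) (ComplexShape.up ℤ) 0).app F) ≪≫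
    ((DerivedCategory.singleFunctorIsoCompQ _ 0).app _).symm

variable {S : Scheme.{u}}

theorem finiteAmp_over_smooth (h : B ⟶ S) [Smooth h] (φ : X ⟶ B) (F : X.Modules) (x : X) {a b : ℤ}
    (hS : DerSch.HasTorAmplitudeAt (φ ≫ h) a b
      ((HomologicalComplex.single X.Modules (ComplexShape.up ℤ) 0).obj F) x) :
    ∃ a b : ℤ, DerSch.HasTorAmplitudeAt φ a b
      ((HomologicalComplex.single X.Modules (ComplexShape.up ℤ) 0).obj F) x := by
  let y : B := φ.base x
  obtain ⟨U, hU, V, hV, hy, e, hstd⟩ := Smooth.exists_isStandardSmooth h y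
  obtain ⟨n, g, hgC, hg⟩ := hstd.exists_etale_mvPolynomial
  let Os : Type u := S.presheaf.stalk (h.base y)
  let Ob : Type u := B.presheaf.stalk y
  let MS := (DerSch.stalkOver (φ ≫ h) x).obj F
  let MB := (DerSch.stalkOver φ x).obj F
  let ψ : Os →+* Ob := (h.stalkMap y).hom
  letI : Algebra Os Ob := ψ.toAlgebra
  letI : Module Os MB := Module.compHom MB ψ
  haveI : IsScalarTower Os Ob MB := IsScalarTower.of_algebraMap_smul fun _ _ => rfl
  -- the two actions of the local ring of the base agree
  let em : @LinearEquiv Os Os _ _ (RingHom.id Os) (RingHom.id Os) _ _ MS MB _ _ MS.isModule _ :=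
    { AddEquiv.refl _ with
      map_smul' := fun r m => by
        show ((φ ≫ h).stalkMap x).hom r • (show (DerSch.stalkFunctor X x).obj F from m) =
          (φ.stalkMap x).hom ((h.stalkMap y).hom r) • (show (DerSch.stalkFunctor X x).obj F from m)
        rw [Scheme.Hom.stalkMap_comp]
        rfl }
  have htd : TD Os (-a).toNat MB := td_of_amplitude _ (DRingLib.hasTorAmplitudeIn_of_iso
    (stalkSingleIso (φ ≫ h) F x ≪≫
      (DerivedCategory.singleFunctor _ 0).mapIso (LinearEquiv.toModuleIso em)) hS)
  -- pass to an affine chart of the base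
  let R : Type u := Γ(S, U)
  have hhy : h.base y ∈ U := e hy
  letI : Algebra R Os := (S.presheaf.germ U (h.base y) hhy).hom.toAlgebra
  haveI : IsLocalization.AtPrime Os (hU.primeIdealOf ⟨h.base y, hhy⟩).asIdeal :=
    hU.isLocalization_stalk ⟨h.base y, hhy⟩
  haveI : Module.Flat R Os := IsLocalization.flat Os (hU.primeIdealOf ⟨h.base y, hhy⟩).asIdeal.primeCompl
  letI : Module R MB := Module.compHom MB (algebraMap R Os)
  haveI : IsScalarTower R Os MB := IsScalarTower.of_algebraMap_smul fun _ _ => rfl
  have htdR : TD R (-a).toNat MB := td_restrict R Os _ MB htd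
  -- the polynomial ring and the etale map
  let P : Type u := MvPolynomial (Fin n) R
  let C : Type u := Γ(B, V)
  letI : Algebra C Ob := (B.presheaf.germ V y hy).hom.toAlgebra
  haveI : IsLocalization.AtPrime Ob (hV.primeIdealOf ⟨y, hy⟩).asIdeal := hV.isLocalization_stalk ⟨y, hy⟩
  letI : Algebra P C := g.toAlgebra
  haveI : Algebra.Etale P C := RingHom.etale_algebraMap.mp hg
  letI : Algebra P Ob := ((algebraMap C Ob).comp g).toAlgebra
  haveI : IsScalarTower P C Ob := IsScalarTower.of_algebraMap_eq fun _ => rfl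
  haveI : Algebra.WeaklyEtale C Ob :=
    WEtNormalLib.weaklyEtale_localization C Ob (hV.primeIdealOf ⟨y, hy⟩).asIdeal.primeCompl
  haveI : Algebra.WeaklyEtale P Ob := Algebra.WeaklyEtale.trans P C Ob
  letI : Module P MB := Module.compHom MB (algebraMap P Ob)
  haveI : IsScalarTower P Ob MB := IsScalarTower.of_algebraMap_smul fun _ _ => rfl
  haveI : IsScalarTower R P MB := IsScalarTower.of_algebraMap_smul fun r m => by
    show (B.presheaf.germ V y hy).hom (g (MvPolynomial.C r)) • m =
      (h.stalkMap y).hom ((S.presheaf.germ U (h.base y) hhy).hom r) • m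
    congr 1
    rw [show g (MvPolynomial.C r) = (h.appLE U V e).hom r from RingHom.congr_fun hgC r,
      Scheme.Hom.germ_stalkMap_apply, Scheme.Hom.appLE]
    exact (B.presheaf.germ_res_apply (homOfLE e) y hy _)
  have htdP : TD P ((-a).toNat + n) MB := td_mvPolynomial R n P AlgEquiv.refl _ MB htdR
  have htdB : TD Ob ((-a).toNat + n) MB := td_of_weaklyEtale P Ob _ MB htdP
  exact ⟨-(((-a).toNat + n : ℕ) : ℤ), 0, DRingLib.hasTorAmplitudeIn_of_iso (stalkSingleIso φ F x).symm
    ((DRingLib.hasTorDimLE_iff_amplitude MB _).1 ((td_iff_hasTorDimLE _ _).1 htdB))⟩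

end Groth.Agent.SmTorLib
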