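import Groth.Agent.TorDimLib.Basic
import Groth.Agent.PDLib.PD
import Groth.Agent.AbsFlat.Basic
import Mathlib.RingTheory.Etale.Weakly
import Mathlib.RingTheory.Polynomial.Basic
import Mathlib.LinearAlgebra.DirectSum.Finsupp

/-! Tor dimension of a module along weakly étale and polynomial extensions. -/

set_option autoImplicit false
set_option linter.style.haveILetI false
universe u

open CategoryTheory TensorProduct TorDimLib

namespace Groth.Agent.SmTorLib

variable (A : Type u) [CommRing A]

/-- `M` has tor dimension at most `n`. -/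
def TD (n : ℕ) (M : Type u) [AddCommGroup M] [Module A M] : Prop :=
  ∀ (N : ModuleCat.{u} A) (P : ProjectiveResolution N) (p : ℕ), n ≤ p → ExactAtSucc M P p

variable {A}

theorem td_iff_hasTorDimLE (n : ℕ) (M : Type u) [AddCommGroup M] [Module A M] :
    TD A n M ↔ DRing.HasTorDimLE A n M := by
  constructor
  · intro h N _ _ p hp
    obtain ⟨q, rfl⟩ : ∃ q, p = q + 1 := ⟨p - 1, by omega⟩
    obtain ⟨P⟩ := (inferInstance : HasProjectiveResolution (ModuleCat.of A N)).out
    exact ModuleCat.subsingleton_of_isZero
      (PDLib.isZero_tor_of_exactAtSucc P q (h _ P q (by omega)))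
  · intro h N P p hp
    exact exactAtSucc_of_subsingleton_tor (N := N) P p (h N (p + 1) (by omega))

theorem td_zero_iff (M : Type u) [AddCommGroup M] [Module A M] : TD A 0 M ↔ Module.Flat A M :=
  ⟨fun h => flat_of_exactAtSucc fun N _ _ P => h _ P 0 le_rfl,
    fun h N P p _ => PDLib.exactAtSucc_of_flat M P p⟩

theorem td_succ_iff {K F M : Type u} [AddCommGroup K] [Module A K] [AddCommGroup F] [Module A F]
    [AddCommGroup M] [Module A M] [Module.Flat A F] (i : K →ₗ[A] F) (g : F →ₗ[A] M)
    (hi : Function.Injective i) (hex : Function.Exact i g) (hg : Function.Surjective g) (n : ℕ) :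
    TD A (n + 1) M ↔ TD A n K := by
  refine ⟨fun h N P p hp => exactAtSucc_shift i g hi hex hg P p (h N P (p + 1) (by omega)), fun h N P p hp => ?_⟩
  obtain ⟨q, rfl⟩ : ∃ q, p = q + 1 := ⟨p - 1, by omega⟩
  exact PDLib.exactAtSucc_unshift i g hi hex hg P q (h N P q (by omega))

theorem td_mono {M : Type u} [AddCommGroup M] [Module A M] {n m : ℕ} (hnm : n ≤ m) (h : TD A n M) :
    TD A m M :=
  fun N P p hp => h N P p (hnm.trans hp)

theorem exists_pres (M : Type u) [AddCommGroup M] [Module A M] :
    ∃ (F : Type u) (_ : AddCommGroup F) (_ : Module A F), Module.Free A F ∧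
      ∃ g : F →ₗ[A] M, Function.Surjective g :=
  ⟨M →₀ A, inferInstance, inferInstance, inferInstance, Finsupp.linearCombination A id,
    Finsupp.linearCombination_id_surjective A M⟩

variable (R B : Type u) [CommRing R] [CommRing B] [Algebra R B]

/-- Along a flat map tor dimension does not grow upon restriction of scalars. -/
theorem td_restrict [Module.Flat R B] : ∀ (n : ℕ) (M : Type u) [AddCommGroup M] [Module B M] [Module R M]
    [IsScalarTower R B M], TD B n M → TD R n M := by
  intro n
  induction n with
  | zero =>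
    intro M _ _ _ _ h
    haveI := (td_zero_iff M).1 h
    exact (td_zero_iff M).2 (Module.Flat.trans R B M)
  | succ n ih =>
    intro M _ _ _ _ h
    obtain ⟨F, _, _, _, g, hg⟩ := exists_pres (A := B) M
    let _ : Module R F := Module.compHom F (algebraMap R B)
    haveI : IsScalarTower R B F := IsScalarTower.of_algebraMap_smul fun _ _ => rfl
    haveI : Module.Flat R F := Module.Flat.trans R B F
    have hK := (td_succ_iff (LinearMap.ker g).subtype g Subtype.val_injective
      (LinearMap.exact_subtype_ker_map g) hg n).1 h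
    exact (td_succ_iff ((LinearMap.ker g).subtype.restrictScalars R) (g.restrictScalars R)
      Subtype.val_injective (LinearMap.exact_subtype_ker_map g) hg n).2 (ih _ hK)

/-- Along a weakly étale map tor dimension does not grow. -/
theorem td_of_weaklyEtale [Algebra.WeaklyEtale R B] : ∀ (n : ℕ) (M : Type u) [AddCommGroup M] [Module B M]
    [Module R M] [IsScalarTower R B M], TD R n M → TD B n M := by
  intro n
  induction n with
  | zero =>
    intro M _ _ _ _ h
    haveI := (td_zero_iff M).1 h
    exact (td_zero_iff M).2 (AbsFlat.flat_of_flat_mul (Algebra.WeaklyEtale.flat_lmul' R B) M)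
  | succ n ih =>
    intro M _ _ _ _ h
    obtain ⟨F, _, _, _, g, hg⟩ := exists_pres (A := B) M
    let _ : Module R F := Module.compHom F (algebraMap R B)
    haveI : IsScalarTower R B F := IsScalarTower.of_algebraMap_smul fun _ _ => rfl
    haveI : Module.Flat R F := Module.Flat.trans R B F
    have hK := (td_succ_iff ((LinearMap.ker g).subtype.restrictScalars R) (g.restrictScalars R)
      Subtype.val_injective (LinearMap.exact_subtype_ker_map g) hg n).1 h
    exact (td_succ_iff (LinearMap.ker g).subtype g Subtype.val_injective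
      (LinearMap.exact_subtype_ker_map g) hg n).2 (ih _ hK)

/-- The difference map `p ⊗ m ↦ x p ⊗ m - p ⊗ x m`. -/
noncomputable def diffMap (x : B) (M : Type u) [AddCommGroup M] [Module B M] [Module R M]
    [IsScalarTower R B M] : B ⊗[R] M →ₗ[B] B ⊗[R] M :=
  x • LinearMap.id - ((LinearMap.lsmul B M x).restrictScalars R).baseChange B

theorem diffMap_tmul (x : B) (M : Type u) [AddCommGroup M] [Module B M] [Module R M]
    [IsScalarTower R B M] (p : B) (m : M) :
    diffMap R B x M (p ⊗ₜ m) = (x * p) ⊗ₜ m - p ⊗ₜ (x • m) := by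
  simp [diffMap, TensorProduct.smul_tmul']

/-- A module over a polynomial algebra in one variable, flat over the base, has tor dimension at most one. -/
theorem td_one_of_powBasis (x : B) (b : Module.Basis ℕ R B) (hb : ∀ n, b n = x ^ n) (M : Type u)
    [AddCommGroup M] [Module B M] [Module R M] [IsScalarTower R B M] [Module.Flat R M] : TD B 1 M := by
  classical
  let i := diffMap R B x M
  let g : B ⊗[R] M →ₗ[B] M := (LinearMap.id (R := R) (M := M)).liftBaseChange B
  let e : B ⊗[R] M ≃ₗ[R] (ℕ →₀ M) := TensorProduct.equivFinsuppOfBasisLeft b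
  have he : ∀ (n : ℕ) (m : M), e ((x ^ n) ⊗ₜ m) = Finsupp.single n m := by
    intro n m
    rw [← hb]
    simp [e]
  let d : (ℕ →₀ M) →ₗ[R] (ℕ →₀ M) :=
    Finsupp.lmapDomain M R Nat.succ - Finsupp.mapRange.linearMap ((LinearMap.lsmul B M x).restrictScalars R)
  have hd : ∀ z, e (i z) = d (e z) := by
    suffices h : e.toLinearMap.comp (i.restrictScalars R) = d.comp e.toLinearMap from
      fun z => LinearMap.congr_fun h z
    refine TensorProduct.ext ?_
    refine b.ext fun n => LinearMap.ext fun m => ?_
    show e (i (b n ⊗ₜ m)) = d (e (b n ⊗ₜ m))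
    simp only [i, diffMap_tmul, hb, he, ← pow_succ', map_sub]
    simp [d, Finsupp.mapDomain_single]
  have hi : Function.Injective i := by
    refine (injective_iff_map_eq_zero i).2 fun z hz => ?_
    by_contra hne
    have hw : e z ≠ 0 := fun h => hne (e.map_eq_zero_iff.1 h)
    have h0 : d (e z) = 0 := by rw [← hd, hz, map_zero]
    have hs : (e z).support.Nonempty := Finsupp.support_nonempty_iff.2 hw
    let N := (e z).support.max' hs
    have hN : (e z) N ≠ 0 := Finsupp.mem_support_iff.1 (Finset.max'_mem _ hs)
    have hN1 : (e z) (N + 1) = 0 := by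
      by_contra h
      have := Finset.le_max' _ _ (Finsupp.mem_support_iff.2 h)
      omega
    apply hN
    have := DFunLike.congr_fun h0 (N + 1)
    simpa [d, hN1, Finsupp.mapDomain_apply Nat.succ_injective] using this
  have hg : Function.Surjective g := fun m => ⟨1 ⊗ₜ m, by simp [g]⟩
  have hgi : ∀ z, g (i z) = 0 := by
    intro z
    induction z using TensorProduct.induction_on with
    | zero => simp
    | add a b ha hb => simp [ha, hb]
    | tmul p m =>
      simp [i, g, diffMap_tmul, mul_smul, smul_comm x p m]
  have hgen : ∀ z, ∃ (m : M) (w : B ⊗[R] M), z = (1 : B) ⊗ₜ m + i w := by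
    intro z
    induction z using TensorProduct.induction_on with
    | zero => exact ⟨0, 0, by simp⟩
    | add a c ha hc =>
      obtain ⟨m, w, rfl⟩ := ha
      obtain ⟨m', w', rfl⟩ := hc
      exact ⟨m + m', w + w', by rw [TensorProduct.tmul_add, map_add]; abel⟩
    | tmul p m =>
      have key : ∀ (n : ℕ) (m : M), ∃ (m' : M) (w : B ⊗[R] M), (x ^ n) ⊗ₜ[R] m = (1 : B) ⊗ₜ m' + i w := by
        intro n
        induction n with
        | zero => exact fun m => ⟨m, 0, by simp⟩
        | succ n ih =>
          intro m
          obtain ⟨m', w, hw⟩ := ih (x • m)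
          refine ⟨m', w + (x ^ n) ⊗ₜ m, ?_⟩
          rw [map_add, ← add_assoc, ← hw, show i ((x ^ n) ⊗ₜ m) = _ from diffMap_tmul R B x M _ m, ← pow_succ']
          abel
      have hp : p ∈ Submodule.span R (Set.range b) := b.span_eq ▸ Submodule.mem_top
      induction hp using Submodule.span_induction generalizing m with
      | mem y hy =>
        obtain ⟨n, rfl⟩ := hy
        rw [hb]
        exact key n m
      | zero => exact ⟨0, 0, by simp⟩
      | add p q _ _ hp hq =>
        obtain ⟨m₁, w₁, h₁⟩ := hp m
        obtain ⟨m₂, w₂, h₂⟩ := hq m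
        exact ⟨m₁ + m₂, w₁ + w₂, by rw [TensorProduct.add_tmul, h₁, h₂, TensorProduct.tmul_add, map_add]; abel⟩
      | smul r p _ hp =>
        obtain ⟨m₁, w₁, h₁⟩ := hp (r • m)
        exact ⟨m₁, w₁, by rw [TensorProduct.smul_tmul, h₁]⟩
  have hex : Function.Exact i g := fun z => by
    refine ⟨fun hz => ?_, fun ⟨w, hw⟩ => hw ▸ hgi w⟩
    obtain ⟨m, w, rfl⟩ := hgen z
    have : m = 0 := by simpa [g, hgi] using hz
    exact ⟨w, by simp [this]⟩
  exact (td_succ_iff i g hi hex hg 0).2 ((td_zero_iff _).2 inferInstance)

/-- A polynomial variable raises tor dimension by at most one. -/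
theorem td_succ_of_powBasis (x : B) (b : Module.Basis ℕ R B) (hb : ∀ n, b n = x ^ n) :
    ∀ (n : ℕ) (M : Type u) [AddCommGroup M] [Module B M] [Module R M] [IsScalarTower R B M],
    TD R n M → TD B (n + 1) M := by
  haveI : Module.Free R B := Module.Free.of_basis b
  intro n
  induction n with
  | zero =>
    intro M _ _ _ _ h
    haveI := (td_zero_iff M).1 h
    exact td_one_of_powBasis R B x b hb M
  | succ n ih =>
    intro M _ _ _ _ h
    obtain ⟨F, _, _, _, g, hg⟩ := exists_pres (A := B) M
    let _ : Module R F := Module.compHom F (algebraMap R B)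
    haveI : IsScalarTower R B F := IsScalarTower.of_algebraMap_smul fun _ _ => rfl
    haveI : Module.Flat R F := Module.Flat.trans R B F
    have hK := (td_succ_iff ((LinearMap.ker g).subtype.restrictScalars R) (g.restrictScalars R)
      Subtype.val_injective (LinearMap.exact_subtype_ker_map g) hg n).1 h
    exact (td_succ_iff (LinearMap.ker g).subtype g Subtype.val_injective
      (LinearMap.exact_subtype_ker_map g) hg (n + 1)).2 (ih _ hK)

/-- `n` polynomial variables raise tor dimension by at most `n`. -/
theorem td_mvPolynomial : ∀ (n : ℕ) (C : Type u) [CommRing C] [Algebra R C]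
    (_ : MvPolynomial (Fin n) R ≃ₐ[R] C) (k : ℕ) (M : Type u) [AddCommGroup M] [Module C M] [Module R M]
    [IsScalarTower R C M], TD R k M → TD C (k + n) M := by
  intro n
  induction n with
  | zero =>
    intro C _ _ e k M _ _ _ _ h
    have hbij : Function.Bijective (algebraMap R C) := by
      rw [← ((MvPolynomial.isEmptyAlgEquiv R (Fin 0)).symm.trans e).toAlgHom.comp_algebraMap]
      exact ((MvPolynomial.isEmptyAlgEquiv R (Fin 0)).symm.trans e).bijective.comp Function.bijective_id
    haveI : Algebra.Etale R C :=
      Algebra.Etale.of_equiv (R := R) (A := R) ((MvPolynomial.isEmptyAlgEquiv R (Fin 0)).symm.trans e)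
    exact td_of_weaklyEtale R C k M h
  | succ n ih =>
    intro C _ _ e k M _ _ _ _ h
    let R' := MvPolynomial (Fin n) R
    let e' : Polynomial R' ≃ₐ[R] C := (MvPolynomial.finSuccEquiv R n).symm.trans e
    let φ : R' →+* C := e'.toAlgHom.toRingHom.comp Polynomial.C
    letI : Algebra R' C := φ.toAlgebra
    haveI : IsScalarTower R R' C := IsScalarTower.of_algebraMap_eq fun r => by
      show algebraMap R C r = e' (Polynomial.C (algebraMap R R' r))
      rw [← e'.commutes r]
      rfl
    letI : Module R' M := Module.compHom M φ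
    haveI : IsScalarTower R' C M := IsScalarTower.of_algebraMap_smul fun _ _ => rfl
    haveI : IsScalarTower R R' M := IsScalarTower.of_algebraMap_smul fun r m => by
      show algebraMap R' C (algebraMap R R' r) • m = r • m
      rw [← IsScalarTower.algebraMap_apply, IsScalarTower.algebraMap_smul]
    let eC : Polynomial R' ≃ₐ[R'] C := AlgEquiv.ofRingEquiv (f := e'.toRingEquiv) fun _ => rfl
    refine td_succ_of_powBasis R' C (eC Polynomial.X) ((Polynomial.basisMonomials R').map eC.toLinearEquiv)
      (fun j => ?_) (k + n) M (ih R' AlgEquiv.refl k M h)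
    simp [Polynomial.monomial_one_right_eq_X_pow]

end Groth.Agent.SmTorLib
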